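import Cfsg.Agent.Lib.SPT.A0

/-!
# S3586 (copy of `Lib/TA` for the element orders of `U₆(2)`), part A: index 2 tools
-/

set_option autoImplicit false

namespace Cfsg.Lib.SPT

open Subgroup Cfsg.Lib.BG Cfsg.Lib.FGS Cfsg.Lib.SR Cfsg.Lib.N8 Cfsg.Lib.SPL
open scoped commutatorElement Cfsg.Lib.Transfer

variable {G : Type*} [Group G] {H K M T : Subgroup G} {c g m n r s t u x y z : G}

theorem zp2x (z2 : z * z = 1) (hy : y ∈ zpowers z) : y = 1 ∨ y = z := by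
  have e := (mem_sup_zp (E := ⊥) (x := z) (y := y) (norm_bot (G := G) ▸ mem_top z) (by simpa using z2)).1 (by simpa using hy)
  simpa [mul_inv_eq_one] using e

theorem cent_of_mulx (h : x * y ∈ 𝐂[c]) (hy : y ∈ 𝐂[c]) : x ∈ 𝐂[c] := by
  simpa using mul_mem h (inv_mem hy)

theorem cent_of_mulx' (h : c ∈ 𝐂[x * y]) (hx : c ∈ 𝐂[x]) : c ∈ 𝐂[y] :=
  mem_cent1_symm (by simpa using mul_mem (inv_mem (mem_cent1_symm hx)) (mem_cent1_symm h))

theorem cj_centx : cj g x ∈ 𝐂[cj g y] ↔ x ∈ 𝐂[y] := by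
  rw [mem_cent1, mem_cent1, ← map_mul, ← map_mul]
  exact ⟨cj_inj, fun e => by rw [e]⟩

theorem cj_starx : cj g x ∈ g ⋆ H ↔ x ∈ H := Transfer.conj_mem_conj

theorem isConj_cjx (g : G) (e : IsConj x z) : IsConj (cj g x) z := (isConj_iff.2 ⟨g, rfl⟩ : IsConj x (cj g x)).symm.trans e

theorem Al.zcx (a : Al T M z) (ht : t ∈ T) : z * t = t * z := (mem_cent1.1 (a.cen ht)).symm

theorem Al.zcentx (a : Al T M z) (ht : t ∈ T) : z ∈ 𝐂[t] := mem_cent1_symm (a.cen ht)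

theorem Al.cjzx (a : Al T M z) (ht : t ∈ T) : cj t z = z := cj_fix.2 (a.zcentx ht)

theorem Al.cj_orx (a : Al T M z) (hm : m ∈ M) (hn : n ∈ M) : cj m n = n ∨ cj m n = z * n := by
  rw [cj_eq]
  exact (a.cm hm hn).imp (fun e => by rw [e, one_mul]) fun e => by rw [e]

theorem Al.cmzx (a : Al T M z) (hm : m ∈ M) (hn : n ∈ M) (e : m ∉ 𝐂[n]) : ⁅m, n⁆ = z :=
  (a.cm hm hn).resolve_left fun q => e (mem_cent1.2 (cm_one.1 q))

theorem Al.zZx (a : Al T M z) : z ∈ M ⊓ 𝐂(M) := ⟨a.mem, le_cent1_iff.1 (a.le.trans a.cen)⟩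

variable [Finite G]

theorem two_lex (hH : H ≤ K) (hx : x ∈ K) (x' : x ∉ H) : 2 * Nat.card H ≤ Nat.card K := by
  have l : Nat.card H < Nat.card K := Transfer.card_lt_of_lt (lt_of_le_of_ne hH fun e => x' (e ▸ hx))
  obtain ⟨k, e⟩ := card_dvd hH
  rcases k with _ | _ | k
  · omega
  · omega
  · rw [e]; nlinarith

theorem ix2x (hH : H ≤ K) (c : Nat.card K ≤ 2 * Nat.card H) (hx : x ∈ K) (hy : y ∈ K) (x' : x ∉ H) (y' : y ∉ H) :
    x * y ∈ H := by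
  have e := card_mul_relIndex hH
  have l := two_lex hH hx x'
  have p : 0 < Nat.card H := Nat.card_pos
  have i : H.relIndex K = 2 := Nat.eq_of_mul_eq_mul_left p (by omega)
  exact (mul_mem_iff_of_index_two i (a := ⟨x, hx⟩) (b := ⟨y, hy⟩)).2 (iff_of_false x' y')

omit [Finite G] in
theorem halfx (h : ∀ x ∈ K, ∀ y ∈ K, x ∉ H → y ∉ H → x * y ∈ H) : Nat.card K ≤ 2 * Nat.card ↥(K ⊓ H) := by
  by_cases e : K ≤ H
  · rw [inf_eq_left.2 e]; omega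
  obtain ⟨a, ha, a'⟩ := SetLike.not_le_iff_exists.1 e
  have i : (K ⊓ H).relIndex K = 2 := by
    refine index_eq_two_iff.2 ⟨⟨a, ha⟩, fun b => ?_⟩
    simp only [mem_subgroupOf, mem_inf, coe_mul]
    by_cases q : b.1 ∈ H
    · exact .inr ⟨⟨b.2, q⟩, fun w => a' ((H.mul_mem_cancel_left q).1 w.2)⟩
    · exact .inl ⟨⟨mul_mem b.2 ha, h _ b.2 _ ha q a'⟩, fun w => q w.2⟩
  rw [← card_mul_relIndex (inf_le_left : K ⊓ H ≤ K), i]
  omega

namespace Al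

variable (a : Al T M z) (h : Ax T s)
include a h

theorem excx (e : IsConj u z) (ne : u ≠ z) : ∃ c ∈ M, c ∉ 𝐂[u] :=
  SetLike.not_le_iff_exists.1 fun l => ne (a.f0 h l e)

theorem card32x (hu : u ∈ M) (e : IsConj u z) (ne : u ≠ z) : Nat.card ↥(M ⊓ 𝐂[u]) = 32 := by
  obtain ⟨c, hc, c'⟩ := a.excx h e ne
  have l1 := a.card_cent le_rfl hu
  have l2 := two_lex (inf_le_left : M ⊓ 𝐂[u] ≤ M) hc fun q => c' q.2
  have := a.card
  omega

theorem ncenx (e : IsConj u z) (ne : u ≠ z) : u ∉ 𝐂(M) := fun q => ne (a.f0 h (le_cent1_iff.2 q) e)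

/-- `T = M ∪ M r` -/
theorem Tcenx (hr : r ∈ T) (r' : r ∉ M) (hy : y ∈ 𝐂(M)) (c : r ∈ 𝐂[y]) : T ≤ 𝐂[y] := fun t ht => by
  by_cases q : t ∈ M
  · exact le_cent1_iff.2 hy q
  · exact cent_of_mulx (le_cent1_iff.2 hy (a.ix h ht hr q r')) c

end Al

end Cfsg.Lib.SPT
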