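import Cfsg.Agent.Lib.SPT.A0n
import Cfsg.Agent.Lib.SPT.A0x

/-!
# S3586 (copy of `Lib/TA` for the element orders of `U₆(2)`), part A: case (a2), no conjugate `u ≠ z` of `z` in `M` has an elementary centralizer in `M`
-/

set_option autoImplicit false

namespace Cfsg.Lib.SPT

open Subgroup Cfsg.Lib.BG Cfsg.Lib.FGS Cfsg.Lib.SR Cfsg.Lib.N8 Cfsg.Lib.SPL
open scoped commutatorElement Cfsg.Lib.Transfer

variable {G : Type*} [Group G] [Finite G] {M T Y : Subgroup G} {r s u v z : G}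

/-- the configuration after extremal conjugation: `v = cj k z`, `Y = k ⋆ (X ⊓ k⁻¹ ⋆ M)`, `r ∈ k ⋆ X ∖ M` for `X = M ⊓ 𝐂[u]` -/
structure A2c (T M Y : Subgroup G) (z v r : G) : Prop where
  al : Al T M z
  le : Y ≤ M ⊓ 𝐂[v]
  el : El Y
  card : Nat.card Y = 16
  zY : z ∈ Y
  vY : v ∈ Y
  vz : IsConj v z
  ne : v ≠ z
  vW : v ∈ Fr2 T
  nel : ¬ El (M ⊓ 𝐂[v])
  rT : r ∈ T
  rM : r ∉ M
  cm : ∀ y ∈ Y, ⁅y, r⁆ = 1 ∨ ⁅y, r⁆ = v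
  two : (r * r = 1 ∧ Nat.card ↥(M ⊓ 𝐂(M)) ≤ 4) ∨ (r * r = v ∧ 16 ≤ Nat.card ↥(M ⊓ 𝐂(M)))

/-- `X = M ⊓ 𝐂[u]` has order 32 (`card_cent`, `f0`).  `extr`: `cj k u = z`, `k ⋆ X ≤ T`.  `Y₀ = {x ∈ X | cj k x ∈ M}` has index `≤ 2`
in `X`, squares in `{1, z} ∩ {1, u}`, so is elementary of order 16 (`X` is not elementary), `u ∈ Y₀`; take `x ∈ X` with `x² = z`:
`x ∉ Y₀`, `z = x² ∈ Y₀` (`sqM`), `v = cj k z = (cj k x)²`.  `Y = k ⋆ Y₀`.  If `x` centralizes `Y₀` then `X` is abelian, `r = cj k x`, and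
for `c ∈ M ∖ X`, `X ⊓ 𝐂[c] ≤ M ⊓ 𝐂(M)` has order `≥ 16` (`card_cent`).  Otherwise `⁅y, x⁆ = z` for some `y ∈ Y₀`, `(y x)² = 1`,
`r = cj k (y x)`, and `M ⊓ 𝐂(M) ≤ X ⊓ 𝐂(X) = Y₀ ⊓ 𝐂[x]` (order `≤ 8`) misses `u` (`f0`), so has order `≤ 4`. -/
theorem Al.a2c (a : Al T M z) (h : Ax T s) (hn : ∀ v ∈ M, IsConj v z → v ≠ z → ¬ El (M ⊓ 𝐂[v])) (hu : u ∈ M) (e : IsConj u z)
    (ne : u ≠ z) : ∃ Y v r, A2c T M Y z v r := by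
  have cX := a.card32x h hu e ne
  have XT : M ⊓ 𝐂[u] ≤ T := inf_le_left.trans a.le
  obtain ⟨k, ku, kT⟩ := h.extr a.cen e (pgroup_of_le h.pg XT) inf_le_right
  have b := a.conj k
  have vz : cj k z ≠ z := fun q => ne (cj_inj (ku.trans q.symm))
  have XM : k ⋆ (M ⊓ 𝐂[u]) ≤ k ⋆ M := Transfer.conj_mono k inf_le_left
  have Xv : k ⋆ (M ⊓ 𝐂[u]) ≤ 𝐂[cj k z] := XM.trans (b.le.trans b.cen)
  have cX' := (Transfer.card_conj k (M ⊓ 𝐂[u])).trans cX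
  have el : El (k ⋆ (M ⊓ 𝐂[u]) ⊓ M) := fun y hy =>
    (a.sq y hy.2).elim id fun q => (b.sq y (XM hy.1)).resolve_right fun w => vz (w.symm.trans q)
  obtain ⟨x₀, hx₀, x2⟩ : ∃ x ∈ M ⊓ 𝐂[u], x * x ≠ 1 := by simpa only [El, not_forall, exists_prop] using hn u hu e ne
  have hx : cj k x₀ ∈ k ⋆ (M ⊓ 𝐂[u]) := cj_starx.2 hx₀
  have xx : cj k x₀ * cj k x₀ = cj k z := by rw [← map_mul, (a.sq _ hx₀.1).resolve_left x2]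
  generalize cj k x₀ = x at hx xx
  have xM : x ∉ M := fun q => b.ne (xx ▸ el x ⟨hx, q⟩)
  have ix : ∀ y ∈ k ⋆ (M ⊓ 𝐂[u]), y ∉ M → y * x ∈ k ⋆ (M ⊓ 𝐂[u]) ⊓ M := fun y hy y' =>
    ⟨mul_mem hy hx, a.ix h (kT hy) (kT hx) y' xM⟩
  have cY : Nat.card ↥(k ⋆ (M ⊓ 𝐂[u]) ⊓ M) = 16 := by
    have l1 := halfx (K := k ⋆ (M ⊓ 𝐂[u])) fun x hx y hy => a.ix h (kT hx) (kT hy)
    have l2 := two_lex (inf_le_left : k ⋆ (M ⊓ 𝐂[u]) ⊓ M ≤ _) hx fun q => xM q.2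
    omega
  have zY : z ∈ k ⋆ (M ⊓ 𝐂[u]) ⊓ M := ⟨ku ▸ cj_starx.2 ⟨hu, self_mem_cent1 u⟩, a.mem⟩
  have vM : cj k z ∈ M := xx ▸ a.sqM h (kT hx)
  have iv : IsConj (cj k z) z := isConj_cjx k (.refl z)
  have fin : ∀ r ∈ k ⋆ (M ⊓ 𝐂[u]), r ∉ M →
      (r * r = 1 ∧ Nat.card ↥(M ⊓ 𝐂(M)) ≤ 4) ∨ (r * r = cj k z ∧ 16 ≤ Nat.card ↥(M ⊓ 𝐂(M))) →
      ∃ Y v r, A2c T M Y z v r := fun r hr r' t =>
    ⟨k ⋆ (M ⊓ 𝐂[u]) ⊓ M, cj k z, r, a, fun y hy => ⟨hy.2, Xv hy.1⟩, el, cY, zY, ⟨xx ▸ mul_mem hx hx, vM⟩, iv, vz, xx ▸ sq_mem_Fr2 (kT hx),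
      hn _ vM iv vz, kT hr, r', fun y hy => b.cm (XM hy.1) (XM hr), t⟩
  by_cases c : k ⋆ (M ⊓ 𝐂[u]) ⊓ M ≤ 𝐂[x]
  · refine fin x hx xM (.inr ⟨xx, ?_⟩)
    have c1 : ∀ y ∈ k ⋆ (M ⊓ 𝐂[u]) ⊓ M, k ⋆ (M ⊓ 𝐂[u]) ≤ 𝐂[y] := fun y hy w hw => by
      by_cases q : w ∈ M
      · exact mem_cent1.2 (sq_comm el ⟨hw, q⟩ hy)
      · exact cent_of_mulx (mem_cent1.2 (sq_comm el (ix w hw q) hy)) (mem_cent1_symm (c hy))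
    have c2 : k ⋆ (M ⊓ 𝐂[u]) ≤ 𝐂[x] := fun w hw => by
      by_cases q : w ∈ M
      · exact c ⟨hw, q⟩
      · exact cent_of_mulx (c (ix w hw q)) (self_mem_cent1 x)
    have ab : ∀ y ∈ M ⊓ 𝐂[u], ∀ w ∈ M ⊓ 𝐂[u], w ∈ 𝐂[y] := fun y hy w hw => (cj_centx (g := k)).1 <| by
      by_cases q : cj k y ∈ M
      · exact c1 _ ⟨cj_starx.2 hy, q⟩ (cj_starx.2 hw)
      · exact mem_cent1_symm (cent_of_mulx (mem_cent1_symm (c1 _ (ix _ (cj_starx.2 hy) q) (cj_starx.2 hw)))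
          (mem_cent1_symm (c2 (cj_starx.2 hw))))
    obtain ⟨d, hd, d'⟩ := a.excx h e ne
    have l := a.card_cent (inf_le_left : M ⊓ 𝐂[u] ≤ M) hd
    have l2 : Nat.card ↥(M ⊓ 𝐂[u] ⊓ 𝐂[d]) ≤ Nat.card ↥(M ⊓ 𝐂(M)) :=
      card_le_of_le fun w hw => ⟨hw.1.1, le_cent1_iff.1 fun m hm => by
        by_cases q : m ∈ 𝐂[u]
        · exact ab w hw.1 m ⟨hm, q⟩
        · exact cent_of_mulx (ab w hw.1 _ (ix2x inf_le_left (by rw [cX, a.card]) hm hd (fun p => q p.2) fun p => d' p.2))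
            (mem_cent1_symm hw.2)⟩
    omega
  obtain ⟨y, hy, y'⟩ := SetLike.not_le_iff_exists.1 c
  have yx := b.cmzx (XM hy.1) (XM hx) y'
  refine fin (y * x) (mul_mem hy.1 hx) (fun q => xM ((M.mul_mem_cancel_left hy.2).1 q)) (.inl ⟨?_, ?_⟩)
  · calc y * x * (y * x) = ⁅y, x⁆ * (x * (y * y) * x) := by simp only [cdef]; group
      _ = 1 := by rw [yx, el y hy, mul_one, xx, b.zz]
  have Zc : ∀ w ∈ k ⋆ (M ⊓ 𝐂(M)), w ∈ k ⋆ (M ⊓ 𝐂[u]) ∧ k ⋆ (M ⊓ 𝐂[u]) ≤ 𝐂[w] := by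
    rintro _ ⟨w, hw, rfl⟩
    refine ⟨cj_starx.2 ⟨hw.1, cent_le_cent1 hu hw.2⟩, ?_⟩
    rintro _ ⟨m, hm, rfl⟩
    exact cj_centx.2 (le_cent1_iff.2 hw.2 hm.1)
  have ZY : k ⋆ (M ⊓ 𝐂(M)) ≤ k ⋆ (M ⊓ 𝐂[u]) ⊓ M ⊓ 𝐂[x] := fun w hw => by
    refine ⟨⟨(Zc w hw).1, by_contra fun q => y' ?_⟩, mem_cent1_symm ((Zc w hw).2 hx)⟩
    exact cent_of_mulx' (mem_cent1.2 (sq_comm el hy (ix w (Zc w hw).1 q))) ((Zc w hw).2 hy.1)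
  have l1 := two_lex (inf_le_left : k ⋆ (M ⊓ 𝐂[u]) ⊓ M ⊓ 𝐂[x] ≤ _) hy fun q => y' q.2
  have l2 := two_lex ZY ⟨zY, a.zcentx (kT hx)⟩ fun q => a.ncenx h e ne ((cj_starx (H := M ⊓ 𝐂(M))).1 (ku ▸ q : cj k u ∈ _)).2
  rw [Transfer.card_conj] at l2
  omega

namespace A2c

variable (k : A2c T M Y z v r) (h : Ax T s)
include k h

theorem cardX : Nat.card ↥(M ⊓ 𝐂[v]) = 32 := k.al.card32x h (k.le k.vY).1 k.vz k.ne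

theorem ixY {x y : G} (hx : x ∈ M ⊓ 𝐂[v]) (hy : y ∈ M ⊓ 𝐂[v]) (x' : x ∉ Y) (y' : y ∉ Y) : x * y ∈ Y :=
  ix2x k.le (by rw [k.cardX h, k.card]) hx hy x' y'

theorem ixX {x y : G} (hx : x ∈ M) (hy : y ∈ M) (x' : x ∉ 𝐂[v]) (y' : y ∉ 𝐂[v]) : x * y ∈ M ⊓ 𝐂[v] :=
  ix2x inf_le_left (by rw [k.cardX h, k.al.card]) hx hy (fun q => x' q.2) fun q => y' q.2

/-- `X = M ⊓ 𝐂[v]` has order 32; if `y ∉ Y` then `X = Y ⊔ ⟨y⟩` is elementary.  `⁅y, r⁆ ∈ {1, v}` lies in `𝐂(M)` (`r` normalizes `M`),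
and `v ∉ 𝐂(M)` by `f0`. -/
theorem om1 {y : G} (hy : y ∈ M ⊓ 𝐂(M)) (y2 : y * y = 1) : y ∈ Y ∧ T ≤ 𝐂[y] := by
  have vM := (k.le k.vY).1
  have hY : y ∈ Y := by_contra fun q => k.nel fun x hx => by
    by_cases w : x ∈ Y
    · exact k.el x w
    have e := k.el _ (k.ixY h hx ⟨hy.1, cent_le_cent1 vM hy.2⟩ w q)
    rwa [mul_assoc, ← mul_assoc y, ← mem_cent.1 hy.2 x hx.1, mul_assoc, y2, mul_one] at e
  refine ⟨hY, k.al.Tcenx h k.rT k.rM hy.2 (mem_cent1_symm (mem_cent1.2 (cm_one.1 ((k.cm y hY).resolve_right fun q => ?_))))⟩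
  refine k.al.ncenx h k.vz k.ne (q ▸ ?_)
  rw [show ⁅y, r⁆ = y * cj r y⁻¹ by rw [cdef, cj_def]; group]
  exact mul_mem hy.2 (cj_mem (nrm_cent (k.al.norm h k.rT)) (inv_mem hy.2))

theorem card4 {Z : Subgroup G} (h1 : Z ≤ Fr2 T ⊓ Y) (h2 : Z ≤ 𝐂(M)) : 4 * Nat.card Z ≤ Nat.card (Fr2 T) := by
  have l1 := two_lex h1 ⟨k.vW, k.vY⟩ fun q => k.al.ncenx h k.vz k.ne (h2 q)
  have l2 := two_lex (inf_le_left : Fr2 T ⊓ Y ≤ _) (sq_mem_Fr2 h.mem) fun q => h.s4 (k.el _ q.2)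
  omega

/-- `M = ⟨Y, x₁, x₂⟩` with `x₁ ∈ X ∖ Y`, `x₂ ∈ M ∖ X`; `Z₁ = Y ⊓ 𝐂[x₁] ⊓ 𝐂[x₂] ≤ M ⊓ 𝐂(M)` has order `≥ 4` (`card_cent` twice), so
`M ⊓ 𝐂(M) = Z₁ = {1, z, e, e z}`.  `e ∉ W = Fr2 T`: else `W ≥ ⟨z, e, v⟩ ≅ E₈` (`v ∉ Z₁`), `|W| ≤ 8` (`W8`), but `s² ∈ W` has order 4.
`thom` with `y = e`, `C = T` (`om1`): `g ⋆ T ≤ T`, so `g ⋆ T = T` and `e' = cj g e` is central in `T`; `e' ∈ M` (else `T = M ⟨e'⟩` has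
class 2, `ncl`), so `e' ∈ Z₁`, `e' ≠ 1`, `e' ≠ z` (`f0` for `e`), and `e⁻¹ e' ∈ {1, z} ⊆ W`. -/
theorem four (r2 : r * r = 1) (c : Nat.card ↥(M ⊓ 𝐂(M)) ≤ 4) : False := by
  have al := k.al
  obtain ⟨x, hx, x2⟩ : ∃ x ∈ M ⊓ 𝐂[v], x * x ≠ 1 := by simpa only [El, not_forall, exists_prop] using k.nel
  obtain ⟨d, hd, d'⟩ := al.excx h k.vz k.ne
  have YM : Y ≤ M := k.le.trans inf_le_left
  have l1 := al.card_cent YM hx.1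
  have l2 := al.card_cent (inf_le_left.trans YM : Y ⊓ 𝐂[x] ≤ M) hd
  have cY := k.card
  have Z1 : Y ⊓ 𝐂[x] ⊓ 𝐂[d] ≤ M ⊓ 𝐂(M) := fun w hw => by
    have p : M ⊓ 𝐂[v] ≤ 𝐂[w] := fun m hm => by
      by_cases q : m ∈ Y
      · exact mem_cent1.2 (sq_comm k.el q hw.1.1)
      · exact cent_of_mulx (mem_cent1.2 (sq_comm k.el (k.ixY h hm hx q fun e => x2 (k.el x e)) hw.1.1))
          (mem_cent1_symm hw.1.2)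
    refine ⟨YM hw.1.1, le_cent1_iff.1 fun m hm => ?_⟩
    by_cases q : m ∈ 𝐂[v]
    · exact p ⟨hm, q⟩
    · exact cent_of_mulx (p (k.ixX h hm hd q d')) (mem_cent1_symm hw.2)
  have eZ := eq_of_le_of_card_le Z1 (by omega)
  have ZY : M ⊓ 𝐂(M) ≤ Y := fun w hw => (eZ.ge hw).1.1
  have c4 : Nat.card ↥(M ⊓ 𝐂(M)) = 4 := by rw [eZ] at l2; omega
  have cz : Nat.card (zpowers z) = 2 := by rw [Nat.card_zpowers, Inv.ord_two_iff.2 ⟨al.ne, al.zz⟩]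
  have zZ : zpowers z ≤ M ⊓ 𝐂(M) := zpowers_le.2 al.zZx
  have zW : zpowers z ≤ Fr2 T := zpowers_le.2 (al.zW h)
  obtain ⟨e, he, e'⟩ : ∃ e ∈ M ⊓ 𝐂(M), e ∉ zpowers z :=
    SetLike.not_le_iff_exists.1 fun q => by have := card_le_of_le q; omega
  have ix : ∀ w ∈ M ⊓ 𝐂(M), w ∉ zpowers z → e⁻¹ * w ∈ zpowers z := fun w hw w' =>
    ix2x zZ (by omega) (inv_mem he) hw (fun q => e' (inv_mem_iff.1 q)) w'
  have e2 := k.el e (ZY he)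
  have eW : e ∉ Fr2 T := fun q => by
    have l := k.card4 h (Z := M ⊓ 𝐂(M)) (fun w hw => ⟨by
      by_cases p : w ∈ zpowers z
      · exact zW p
      · simpa using mul_mem q (zW (ix w hw p)), ZY hw⟩) inf_le_right
    have := al.W8 h k.rT k.rM (.inl r2)
    omega
  have Te := (k.om1 h he e2).2
  obtain ⟨g, gT, ge, gW⟩ := h.thom (al.le he.1) e2 eW h.pg Te
  have gN : g⁻¹ ∈ 𝐍(T) := inv_mem (Transfer.mem_normalizer_of_conj_le gT)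
  have Tg : T ≤ 𝐂[cj g e] := fun t ht => by
    have := (cj_centx (g := g)).2 (Te (cj_mem gN ht))
    rwa [cj_cj, mul_inv_cancel, cj_def 1, one_mul, inv_one, mul_one] at this
  have gM : cj g e ∈ M := by_contra fun q => h.ncl fun a ha b hb => by
    have dec : ∀ t ∈ T, ∃ m ∈ M, ∃ j ∈ T, T ≤ 𝐂[j] ∧ t = m * j := fun t ht => by
      by_cases p : t ∈ M
      · exact ⟨t, p, 1, one_mem _, by simp, (mul_one t).symm⟩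
      · exact ⟨_, al.ix h ht ge p q, _, inv_mem ge, by rwa [cent1_inv], (mul_inv_cancel_right _ _).symm⟩
    obtain ⟨m, hm, i, hi, ci, rfl⟩ := dec a ha
    obtain ⟨n, hn, j, hj, cj, rfl⟩ := dec b hb
    have e1 : ⁅m * i, n * j⁆ = ⁅m, n * j⁆ := by
      rw [cdef, cdef, mul_assoc m, ← mem_cent1.1 (ci hb)]; group
    have e2 : ⁅m, n * j⁆ = ⁅m, n⁆ := by
      rw [cdef, cdef, ← mul_assoc, mul_assoc _ j, ← mem_cent1.1 (cj (inv_mem (al.le hm)))]; group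
    rw [e1, e2]
    rcases al.cm hm hn with p | p <;> rw [p]
    exacts [one_mem _, le_cent1_iff.1 al.cen]
  refine gW (zW (ix _ ⟨gM, le_cent1_iff.1 (al.le.trans Tg)⟩ fun q => e' ?_))
  rcases zp2x al.zz q with p | p
  · exact cj_eq_one.1 p ▸ one_mem _
  · exact al.f0 h (le_cent1_iff.2 he.2) (isConj_iff.2 ⟨g, p⟩) ▸ mem_zpowers _

/-- `Z = M ⊓ 𝐂(M)`, `Z₁` its elements of order `≤ 2`, of index `≤ 2` in `Z`, `Z₁ ≤ Y` (`om1`), `v ∉ Z`; so `|Z₁| = 8`, `|Z| = 16`,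
`Y = Z₁ ⊔ ⟨v⟩`, `X = M ⊓ 𝐂[v] = Z ∪ Z v`.  Take `a ∈ M ∖ X`, `w = ⁅a, r⁆`; `z = ⁅a, v⁆ = ⁅a, r r⁆ = w · cj r w`, and `w ∈ X` (`r` normalizes `M`
and `X`, index 2).  Write `w = c` or `w = c v`, `c ∈ Z`: `c · cj r c = z`.  So `c² ≠ 1` (`om1`), `c² = z`, `cj r c = c`, and
`Z = Z₁ ∪ Z₁ c` is centralized by `r` and `M`, so by `T`.  `nz` gives `Z₁ ≤ W`, so `Y ≤ W`, `W = Y` (`W16`) is elementary, but
`s² ∈ W`. -/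
theorem sixteen (r2 : r * r = v) (c : 16 ≤ Nat.card ↥(M ⊓ 𝐂(M))) : False := by
  have al := k.al
  have vX : v ∈ M ⊓ 𝐂[v] := k.le k.vY
  have vZ := al.ncenx h k.vz k.ne
  have ZX : M ⊓ 𝐂(M) ≤ M ⊓ 𝐂[v] := inf_le_inf_left _ (cent_le_cent1 vX.1)
  have hf : ∀ x ∈ M ⊓ 𝐂(M), ∀ y ∈ M ⊓ 𝐂(M), x ∉ Y → y ∉ Y → x * y ∈ Y := fun x hx y hy => k.ixY h (ZX hx) (ZX hy)
  have l := halfx hf
  obtain ⟨a, ha, a'⟩ := al.excx h k.vz k.ne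
  have rM := al.norm h k.rT
  have rv : cj r v = v := by rw [← r2, cj_def]; group
  have rX : ∀ x, cj r x ∈ 𝐂[v] ↔ x ∈ 𝐂[v] := fun x => by rw [← cj_centx (g := r) (x := x) (y := v), rv]
  have wX : ⁅a, r⁆ ∈ M ⊓ 𝐂[v] := by
    rw [show ⁅a, r⁆ = a * cj r a⁻¹ by rw [cdef, cj_def]; group]
    exact k.ixX h ha (cj_mem rM (inv_mem ha)) a' fun q => a' (inv_mem_iff.1 ((rX _).1 q))
  have wz : ⁅a, r⁆ * cj r ⁅a, r⁆ = z := by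
    rw [← al.cmzx ha vX.1 a', ← r2]; simp only [cdef, cj_def]; group
  obtain ⟨d, hd, dz⟩ : ∃ d ∈ M ⊓ 𝐂(M), d * cj r d = z := by
    by_cases q : ⁅a, r⁆ ∈ M ⊓ 𝐂(M)
    · exact ⟨_, q, wz⟩
    refine ⟨_, ix2x ZX (by rw [k.cardX h]; omega) wX vX q fun p => vZ p.2, ?_⟩
    rw [map_mul, rv, mul_assoc, ← mul_assoc v, ← mem_cent1.1 ((rX _).2 wX.2), mul_assoc, k.el v k.vY, mul_one, wz]
  have d2 : d * d ≠ 1 := fun q => al.ne <| by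
    rw [← dz, cj_fix.2 (mem_cent1_symm ((k.om1 h hd q).2 k.rT)), q]
  have Td : T ≤ 𝐂[d] := al.Tcenx h k.rT k.rM hd.2 <| mem_cent1_symm <| cj_fix.1 <|
    mul_left_cancel (dz.trans ((al.sq d hd.1).resolve_left d2).symm)
  have TZ : T ≤ 𝐂(M ⊓ 𝐂(M)) := cent_symm fun w hw => le_cent1_iff.1 fun t ht => by
    by_cases q : w ∈ Y
    · exact (k.om1 h hw (k.el w q)).2 ht
    · exact mem_cent1_symm (cent_of_mulx (mem_cent1_symm ((k.om1 h (mul_mem hw hd)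
        (k.el _ (hf w hw d hd q fun p => d2 (k.el d p)))).2 ht)) (mem_cent1_symm (Td ht)))
  have l2 := k.card4 h (Z := M ⊓ 𝐂(M) ⊓ Y) (fun w hw => ⟨al.nz h inf_le_left TZ c hw.1 (k.el w hw.2), hw.2⟩) fun w hw => hw.1.2
  have := al.W16 h
  omega

theorem false : False := k.two.elim (fun e => k.four h e.1 e.2) fun e => k.sixteen h e.1 e.2

end A2c

end Cfsg.Lib.SPT
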