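import Cfsg.Agent.Lib.SPT.A3

/-!
# S3586 (copy of `Lib/TA` for the element orders of `U₆(2)`), part A: the centre of `T` does not have order 16
-/

set_option autoImplicit false

namespace Cfsg.Lib.SPT

open Subgroup Cfsg.Lib.BG Cfsg.Lib.FGS Cfsg.Lib.SR Cfsg.Lib.N8 Cfsg.Lib.SPL
open scoped commutatorElement Cfsg.Lib.Transfer

variable {G : Type*} [Group G] [Finite G] {M T Z : Subgroup G} {e s z σ : G}

namespace Al

variable (a : Al T M z) {k m n : G}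
include a

omit [Finite G] in
theorem cmL (hm : m ∈ M) (hn : n ∈ M) (hk : k ∈ M) : ⁅m * n, k⁆ = ⁅n, k⁆ * ⁅m, k⁆ := by
  rw [← cj_of_comm (a.zc (a.zp.2 (a.cm hn hk)) (a.le hm))]; simp only [cdef, cj_def]; group

omit [Finite G] in
theorem cmR (hm : m ∈ M) (hn : n ∈ M) (hk : k ∈ M) : ⁅k, m * n⁆ = ⁅k, m⁆ * ⁅k, n⁆ := by
  rw [← cj_of_comm (a.zc (a.zp.2 (a.cm hk hn)) (a.le hm))]; simp only [cdef, cj_def]; group

omit [Finite G] in
theorem sqmul (hm : m ∈ M) (hn : n ∈ M) : m * n * (m * n) = m * m * (n * n) * ⁅n, m⁆ := by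
  have : m * n * (m * n) = cj m ⁅n, m⁆ * (m * m * (n * n)) := by simp only [cdef, cj_def]; group
  rw [this, cj_of_comm (a.zc (a.zp.2 (a.cm hn hm)) (a.le hm)),
    a.zc (a.zp.2 (a.cm hn hm)) (a.le (mul_mem (mul_mem hm hm) (mul_mem hn hn)))]

/-- the elements of order 8 of `T` form a coset of a subgroup -/
theorem ex8 (h : Ax T s) : ∃ Y ≤ T, ∀ x, x ∈ T ∧ x * x * (x * x) ≠ 1 ↔ s⁻¹ * x ∈ Y := by
  have hs := inv_mem h.mem
  have cM : ∀ m ∈ M, cj s⁻¹ m ∈ M := fun m hm => cj_mem (a.norm h hs) hm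
  have fx : ∀ y ∈ zpowers z, cj s⁻¹ y = y := fun y hy => cj_of_comm (a.zc hy hs)
  have hb := a.sqM h h.mem
  have z2 : ∀ y ∈ zpowers z, y * y = 1 := fun y hy => by rcases a.zp.1 hy with rfl | rfl; exacts [one_mul 1, a.zz]
  let Y : Subgroup G :=
    { carrier := {m | m ∈ M ∧ ⁅m, cj s⁻¹ m⁆ = 1}
      one_mem' := ⟨one_mem _, by simp⟩
      inv_mem' := fun {m} hm => ⟨inv_mem hm.1, by rw [map_inv]; exact cm_one.2 (Commute.inv_inv (cm_one.1 hm.2))⟩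
      mul_mem' := fun {m n} hm hn => ⟨mul_mem hm.1 hn.1, by
        have e : ⁅m, cj s⁻¹ n⁆ = ⁅cj s⁻¹ m, n⁆ := by
          have hε := a.zp.2 (a.cm (a.sqM h hs) hn.1)
          rw [← fx _ (a.zp.2 (a.cm hm.1 (cM n hn.1))), cj_cm, cj_cj, cj_eq (s⁻¹ * s⁻¹),
            a.cmR (zpowers_le.2 a.mem hε) hn.1 (cM m hm.1), cm_one.2 (a.zc hε (a.le (cM m hm.1))), one_mul]
        rw [map_mul, a.cmL hm.1 hn.1 (mul_mem (cM m hm.1) (cM n hn.1)), a.cmR (cM m hm.1) (cM n hn.1) hn.1,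
          a.cmR (cM m hm.1) (cM n hn.1) hm.1, hm.2, hn.2, e]
        simp only [cdef]; group⟩ }
  have key : ∀ m ∈ M, s * m * (s * m) * (s * m * (s * m)) = z * ⁅m, cj s⁻¹ m⁆ := fun m hm => by
    have e0 : s * m * (s * m) = s * s * cj s⁻¹ m * m := by simp only [cj_def]; group
    have e1 : ⁅cj s⁻¹ m, s * s⁆ = ⁅m, s * s⁆ := by
      rw [← fx _ (a.zp.2 (a.cm hm hb)), cj_cm, cj_of_comm (g := s⁻¹) (x := s * s) (by group)]
    rw [e0, a.sqmul (mul_mem hb (cM m hm)) hm, a.sqmul hb (cM m hm), a.bb h, a.cmR hb (cM m hm) hm, e1, ← map_mul,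
      fx _ (a.zp.2 (a.sq m hm))]
    rcases a.sq m hm with q | q <;> rcases a.cm hm hb with r | r <;> simp [q, r, a.zz]
  refine ⟨Y, fun m hm => a.le hm.1, fun x => ⟨fun ⟨hx, q⟩ => ?_, fun q => ?_⟩⟩
  · have hm := a.ix h hs hx (fun c => a.sM h (inv_mem_iff.1 c)) fun c => q (z2 _ (a.zp.2 (a.sq x c)))
    refine ⟨hm, (a.cm hm (cM _ hm)).resolve_right fun r => q ?_⟩
    have := key _ hm
    rwa [r, a.zz, mul_inv_cancel_left] at this
  · have := key _ q.1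
    rw [q.2, mul_one, mul_inv_cancel_left] at this
    exact ⟨by simpa using mul_mem h.mem (a.le q.1), this ▸ a.ne⟩

/-- no element of odd prime order normalizes `T` -/
theorem nodd' (h : Ax T s) {p : ℕ} (hp : p.Prime) (p2 : p ≠ 2) (hσ : σ ∈ 𝐍(T)) : orderOf σ ≠ p := fun o => by
  have := Fact.mk hp
  obtain ⟨Y, hY, k⟩ := a.ex8 h
  have e := GH.ncard_conj_modEq (p := p) (P := zpowers σ) (IsPGroup.of_card (n := 1) (by rw [Nat.card_zpowers, o, pow_one]))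
    (s := {x | x ∈ T ∧ x * x * (x * x) ≠ 1}) fun u hu x hx => ⟨conj_mem_of_norm (norm1 hσ hu) hx.1, fun q => hx.2 (cj_eq_one.1 (by
      rw [map_mul, map_mul]; exact q))⟩
  have c : {x | x ∈ T ∧ x * x * (x * x) ≠ 1}.ncard = Nat.card Y := by
    rw [show {x | x ∈ T ∧ x * x * (x * x) ≠ 1} = (fun x => s⁻¹ * x) ⁻¹' (Y : Set G) from Set.ext k,
      Set.ncard_preimage_of_injective_subset_range (mul_right_injective _) fun y _ => ⟨s * y, by simp⟩]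
    rfl
  by_cases f : ∃ x, x ∈ {x | x ∈ T ∧ x * x * (x * x) ≠ 1} ∧ x ∈ 𝐂(zpowers σ)
  · obtain ⟨x, ⟨hx, q⟩, c⟩ := f
    obtain ⟨n, hn⟩ := IsPGroup.iff_orderOf.1 h.pg ⟨x, hx⟩
    rw [← orderOf_coe] at hn
    have d : 8 ∣ orderOf x := by
      rw [show orderOf x = 2 ^ n from hn]
      refine pow_dvd_pow 2 (show 3 ≤ n from not_lt.1 fun l => q ?_)
      rw [← p4, ← orderOf_dvd_iff_pow_eq_one, show orderOf x = 2 ^ n from hn]
      exact pow_dvd_pow 2 (show n ≤ 2 by omega)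
    refine h.sp.comm (mem_cent.1 c σ (mem_zpowers σ)) o.symm.dvd d
      (((Nat.coprime_primes hp Nat.prime_two).2 p2).pow_right 3) fun q => ?_
    have := om_le q; have := hp.two_le; omega
  · rw [c, show {x | x ∈ {x | x ∈ T ∧ x * x * (x * x) ≠ 1} ∧ x ∈ 𝐂(zpowers σ)} = ∅ from
      Set.eq_empty_of_forall_notMem fun x q => f ⟨x, q⟩, Set.ncard_empty] at e
    have d : p ∣ 2 ^ 7 := (Nat.modEq_zero_iff_dvd.1 e).trans ((card_dvd_of_le hY).trans (by rw [h.card]; norm_num))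
    exact p2 ((Nat.prime_dvd_prime_iff_eq hp Nat.prime_two).1 (hp.dvd_of_dvd_pow d))

theorem nT (h : Ax T s) : 𝐍(T) ≤ T := by
  refine h.syl.ge_of_norm_p' le_top (IsPGroup.iff_card.2 ⟨_, (Nat.eq_prime_pow_of_unique_prime_dvd Nat.card_pos.ne' fun {p} hp d => ?_)⟩) le_rfl
  by_contra p2
  have := Fact.mk hp
  obtain ⟨g, o⟩ := exists_prime_orderOf_dvd_card' p d
  exact a.nodd' h hp p2 g.2 ((orderOf_coe g).trans o)

/-- the central involutions of `T` lie in the Frattini subgroup -/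
theorem cenW (h : Ax T s) (he : e ∈ T) (c : T ≤ 𝐂[e]) (e2 : e * e = 1) : e ∈ Fr2 T := by
  by_contra q
  obtain ⟨g, h1, -, h2⟩ := h.thom he e2 q h.pg c
  rw [cj_of_comm (mem_cent1.1 (c (a.nT h (Transfer.mem_normalizer_of_conj_le h1)))), inv_mul_cancel] at h2
  exact h2 (one_mem _)

end Al

/-- Lemma (N).  Let `Z₀ = T ⊓ 𝐂(T) ≥ Z`.  If `|Z₀| ≥ 32` then `T/Z₀` has order `≤ 4`, is abelian, and `Cl2 T` (`h.ncl`); so
`Z = Z₀` has order 16, `z ∈ Z`, `T̄ = T/Z` is non-abelian of order 8 and `M̄ = M/Z` is a four-group.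
(1) `σ` normalizes `T`, `Z`, `Z₁ = {y ∈ Z | y² = 1}` (index `≤ 2` in `Z`: squaring is a homomorphism `Z → ⟨z⟩`).
(2) The set `X` of `t̄ ∈ T̄` with `t̄² ≠ 1` has exactly 2 elements (`t ∉ M`; for a fixed `r ∉ M`, `(m r)² ≡ ⁅m, r⁆ r²`, `m̄ ↦ ⁅m, r⁆`
is a nonzero endomorphism `δ` of `M̄` with `δ² = 0`, so `ker δ = im δ = {1, c̄}` contains `r̄²` and `(m̄ r̄)²` takes the values `1`, `c̄`
twice each).  `σ` has odd order, so it fixes both elements `x̄, x̄⁻¹` of `X`, hence `⟨x̄⟩ ≅ C₄` pointwise; it permutes the other four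
elements (involutions) `ā, ā x̄, ..`: `σ ā = ā x̄^i` gives `σ^j ā = ā x̄^(i j)`, so `x̄^(i p) = 1 = x̄^(4 i)`, `σ ā = ā`.
So `σ` fixes every coset of `Z` in `T`.  (Any other proof that `σ` is trivial on `T/Z` is welcome.)
(3) `σ` fixes the coset `s Z`, which is the union of at most two cosets of `Z₁`, so it fixes `s Z₁` (`σ s = s c`, `c ∈ Z`;
`σ² s ∈ s c² Z₁ = s Z₁`-type argument with odd order).  `|s Z₁|` is a power of 2, prime to `p`, so `⟨σ⟩` (a `p`-group) has a fixed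
point `s y` in it (`IsPGroup.nonempty_fixed_point_of_prime_not_dvd_card`), `(s y)⁴ = s⁴ ≠ 1`, `orderOf (s y) = 8`:
`Sp.comm` with `8 * p ∈ {24, 40, 56}`. -/
theorem Al.nodd (a : Al T M z) (h : Ax T s) (hZ : Z ≤ M) (c : T ≤ 𝐂(Z)) (c16 : 16 ≤ Nat.card Z) {p : ℕ} (hp : p.Prime)
    (p2 : p ≠ 2) (hσ : σ ∈ 𝐍(T)) : orderOf σ ≠ p := by
  have _ := And.intro hZ (And.intro c c16)
  exact a.nodd' h hp p2 hσ

/-- By `nodd` and Cauchy `𝐍(T)` is a 2-group, so `𝐍(T) = T` (Sylow).  `thom` for `y = e`, `C = T` gives `g` with `g ⋆ T ≤ T`, so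
`g ∈ 𝐍(T) = T`, `cj g e = e` and `e⁻¹ * e = 1 ∉ Fr2 T`, absurd. -/
theorem Al.nz (a : Al T M z) (h : Ax T s) (hZ : Z ≤ M) (c : T ≤ 𝐂(Z)) (c16 : 16 ≤ Nat.card Z) (he : e ∈ Z) (e2 : e * e = 1) :
    e ∈ Fr2 T := by
  have _ := c16
  exact a.cenW h (a.le (hZ he)) (c.trans (cent_le_cent1 he)) e2

end Cfsg.Lib.SPT
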