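import Cfsg.Agent.Lib.SPT.A1
import Cfsg.Agent.Lib.SPT.A3
import Cfsg.Agent.Lib.SPT.A4
import Cfsg.Agent.Lib.SPT.A6

/-!
# S3586 (copy of `Lib/TA` for the element orders of `U₆(2)`), part A: the theorem
-/

set_option autoImplicit false

namespace Cfsg.Lib.SPT

open Subgroup Cfsg.Lib.BG Cfsg.Lib.FGS Cfsg.Lib.SR Cfsg.Lib.N8 Cfsg.Lib.SPL
open scoped commutatorElement Cfsg.Lib.Transfer

variable {G : Type*} [Group G] [Finite G] {M T : Subgroup G} {s z : G}

theorem Al.false (a : Al T M z) (h : Ax T s) : False := by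
  have key : ∀ {M u}, Al T M z → u ∈ M → IsConj u z → u ≠ z → El (M ⊓ 𝐂[u]) → False := fun a hu e ne el =>
    let ⟨_, k⟩ := a.aa h hu e ne el; k.false h
  by_cases hb : ∀ v ∈ M, IsConj v z → v = z
  · obtain ⟨g, g1, g2⟩ := h.zstar a.ne a.zz
    have e : IsConj (cj g z) z := (isConj_iff.2 ⟨g, rfl⟩).symm
    obtain ⟨M', a', hu, el⟩ := a.b4 h hb g1 e g2
    exact key a' hu e g2 el
  · push Not at hb
    obtain ⟨u, hu, e, ne⟩ := hb
    obtain ⟨Y, v, r, k⟩ := a.a2c h (fun v hv e ne el => key a hv e ne el) hu e ne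
    exact k.false h

theorem Ax.sr (h : Ax T s) : SR 2 4 T := by
  by_contra hs
  obtain ⟨M, z, a⟩ := h.red hs
  exact a.false h

end Cfsg.Lib.SPT
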