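import Cfsg.Agent.Lib.SPT.Def
import Cfsg.Agent.Lib.SR.Eight2

/-!
# S3586 (copy of `Lib/TA` for the element orders of `U₆(2)`), part A: tools
-/

set_option autoImplicit false

namespace Cfsg.Lib.SPT

open Subgroup Cfsg.Lib.BG Cfsg.Lib.FGS Cfsg.Lib.SR Cfsg.Lib.N8 Cfsg.Lib.SPL
open scoped commutatorElement Cfsg.Lib.Transfer

variable {G : Type*} [Group G] {A B C E K M S T Z : Subgroup G} {e g m n r s t u w x y z : G}

theorem sq_mem_Fr2 (ht : t ∈ T) : t * t ∈ Fr2 T := subset_closure ⟨t, ht, rfl⟩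

theorem Fr2_le : Fr2 T ≤ T := (closure_le _).2 fun _ ⟨_, ht, e⟩ => e ▸ T.mul_mem ht ht

/-- `⁅x, y⁆ = x² · (x⁻¹ y)² · y⁻²` -/
theorem cm_mem_Fr2 (hx : x ∈ T) (hy : y ∈ T) : ⁅x, y⁆ ∈ Fr2 T := by
  have e : ⁅x, y⁆ = x * x * (x⁻¹ * y * (x⁻¹ * y)) * (y⁻¹ * y⁻¹) := by rw [cdef]; group
  exact e ▸ mul_mem (mul_mem (sq_mem_Fr2 hx) (sq_mem_Fr2 (mul_mem (inv_mem hx) hy))) (sq_mem_Fr2 (inv_mem hy))

theorem Al.conj (a : Al T M z) (g : G) : Al (g ⋆ T) (g ⋆ M) (cj g z) :=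
  ⟨Transfer.conj_mono g a.le, (Transfer.card_conj g M).trans a.card, Transfer.conj_mem_conj.2 a.mem, mt cj_eq_one.1 a.ne,
    (map_mul (cj g) z z).symm.trans (cj_eq_one.2 a.zz), (Transfer.conj_mono g a.cen).trans (conj_cent1 g z).le,
    fun _ ⟨m, hm, e⟩ => e ▸ (a.sq m hm).imp (fun c => (map_mul (cj g) m m).symm.trans (cj_eq_one.2 c))
      fun c => (map_mul (cj g) m m).symm.trans (congrArg _ c)⟩

variable [Finite G]

namespace Ax

variable (h : Ax T s)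
include h

omit [Finite G] in
theorem ni : GH.NI G := have := h.simple; .of_simple h.nab

theorem pg : IsPGroup 2 T := h.syl.pgroup

theorem conj (g : G) : Ax (g ⋆ T) (cj g s) := by
  refine ⟨h.simple, h.nab, h.sp, by simpa only [Transfer.conj_top] using h.syl.conj g, (Transfer.card_conj g T).trans h.card,
    Transfer.conj_mem_conj.2 h.mem, (ord_conj g s).trans h.ord, fun A h0 hA c => h.nsc (g⁻¹ ⋆ A)
      (mt Transfer.conj_eq_bot_iff.1 h0) ⟨Transfer.le_conj_iff_inv_conj_le.1 hA.1, fun x hx k hk => ?_⟩ ?_⟩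
  · rw [Transfer.mem_conj, inv_inv] at hx ⊢
    have := hA.2 _ hx (g * k * g⁻¹) (by rw [Transfer.mem_conj]; convert hk using 1; group)
    convert this using 1; group
  · rintro _ ⟨x, hx, rfl⟩ _ ⟨y, hy, rfl⟩
    rw [← map_commutatorElement, ← Transfer.conj_centralizer]
    exact mem_map_of_mem _ (c x hx y hy)

/-- `T` is strongly closed in itself -/
theorem ncl : ¬ Cl2 T :=
  h.nsc T (fun e => by simpa [e] using h.card) ⟨le_rfl, fun _ _ _ e => e⟩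

theorem s4 : s * s * (s * s) ≠ 1 := fun e =>
  absurd (h.ord ▸ orderOf_dvd_of_pow_eq_one ((p4 s).trans e)) (by decide)

/-- Glauberman's `Z*`-theorem -/
theorem zstar (z1 : z ≠ 1) (z2 : z * z = 1) : ∃ g, cj g z ∈ T ∧ cj g z ≠ z :=
  have := h.simple; GH.exists_conj_ne h.nab h.syl (Inv.ord_two_iff.2 ⟨z1, z2⟩)

/-- extremal conjugation onto a central element -/
theorem extr (hz : T ≤ 𝐂[z]) (e : IsConj x z) (hC : IsPGroup 2 C) (hc : C ≤ 𝐂[x]) : ∃ k, cj k x = z ∧ k ⋆ C ≤ T :=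
  GH.extr (h.syl.of_le hz le_top) e hC hc

/-- Thompson's transfer lemma.  Take `N` maximal among the subgroups with `Fr2 T ≤ N ≤ T`, `y ∉ N`.  Subgroups over `Fr2 T` are
normal in `T` (`cm_mem_Fr2`).  For `a ∈ T ∖ N` maximality gives `y ∈ N ⊔ ⟨a⟩ = N ∪ N a` (`mem_sup_zp`), so `a ∈ N y`; hence
`a, b ∉ N → a b ∈ N`.  `NI.thompson` gives `g` with `cj g y ∈ N ⊓ T`, `g ⋆ C ≤ T`, and `y⁻¹ * cj g y ∈ Fr2 T ≤ N` would give `y ∈ N`. -/
theorem thom (hy : y ∈ T) (y2 : y * y = 1) (hW : y ∉ Fr2 T) (hC : IsPGroup 2 C) (hc : C ≤ 𝐂[y]) :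
    ∃ g, g ⋆ C ≤ T ∧ cj g y ∈ T ∧ y⁻¹ * cj g y ∉ Fr2 T := by
  obtain ⟨N, ⟨n1, n2, n3⟩, mx⟩ := (wellFounded_gt (α := Subgroup G)).has_min {N | Fr2 T ≤ N ∧ N ≤ T ∧ y ∉ N}
    ⟨_, le_rfl, Fr2_le, hW⟩
  have nn : T ≤ 𝐍(N) := fun t ht => norm_of fun x hx => cj_eq t x ▸ mul_mem (n1 (cm_mem_Fr2 ht (n2 hx))) hx
  have key : ∀ a ∈ T, a ∉ N → y * a⁻¹ ∈ N := fun a ha a' => by
    by_contra c
    exact mx (N ⊔ zpowers a) ⟨n1.trans le_sup_left, sup_le n2 (zpowers_le.2 ha), fun e =>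
      ((mem_sup_zp (nn ha) (n1 (sq_mem_Fr2 ha))).1 e).elim n3 c⟩
      (le_sup_left.lt_of_ne fun e => a' (e ▸ mem_sup_right (mem_zpowers a)))
  obtain ⟨g, g1, g2, g3⟩ := h.ni.thompson (T := N) h.syl (fun a ha b hb a' b' => by
    have e : a * b = (y * a⁻¹)⁻¹ * (y * b⁻¹) * (b * b) := by group
    exact e ▸ mul_mem (mul_mem (inv_mem (key a ha a')) (key b hb b')) (n1 (sq_mem_Fr2 hb))) y2 hC hc
  exact ⟨g, g3, g2, fun e => n3 (inv_mem_iff.1 ((mul_mem_cancel_right g1).1 (n1 e)))⟩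

/-- a subgroup of order 64 has index 2 -/
theorem ix (hM : M ≤ T) (c : Nat.card M = 64) (hx : x ∈ T) (hy : y ∈ T) (x' : x ∉ M) (y' : y ∉ M) : x * y ∈ M :=
  not_mul hM (by rw [h.card, c]) hx hy x' y'

theorem ixsq (hM : M ≤ T) (c : Nat.card M = 64) (hx : x ∈ T) : x * x ∈ M := by
  by_cases e : x ∈ M
  exacts [M.mul_mem e e, h.ix hM c hx hx e e]

theorem ixnorm (hM : M ≤ T) (c : Nat.card M = 64) : T ≤ 𝐍(M) := norm_two hM (by rw [h.card, c])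

/-- `b = s² ∈ M` has `b² ≠ 1`, so `b² = z ≠ 1`; for `t ∈ T` also `(cj t b)² = cj t z ≠ 1` is a square in `M`, so `cj t z = z`. -/
theorem al (hM : M ≤ T) (c : Nat.card M = 64) (hz : z ∈ M) (z2 : z * z = 1) (sq : ∀ m ∈ M, m * m = 1 ∨ m * m = z) :
    Al T M z := by
  have b := h.ixsq hM c h.mem
  have e := (sq _ b).resolve_left h.s4
  have z1 : z ≠ 1 := e ▸ h.s4
  refine ⟨hM, c, hz, z1, z2, fun t ht => cj_fix.1 ?_ |> mem_cent1_symm, sq⟩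
  have := sq _ (cj_mem (h.ixnorm hM c ht) b)
  rw [← map_mul, e] at this
  exact this.resolve_left (mt cj_eq_one.1 z1)

end Ax

namespace Al

variable (a : Al T M z)
include a

omit [Finite G] in
/-- as `cm_mem_Fr2`: the commutator is a product of squares of `M`, which lie in `{1, z}` -/
theorem cm (hm : m ∈ M) (hn : n ∈ M) : ⁅m, n⁆ = 1 ∨ ⁅m, n⁆ = z := by
  have k : ∀ x ∈ M, x * x ∈ zpowers z := fun x hx => (Inv.mem_zpowers_iff_of_mul_self a.zz).2 (a.sq x hx)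
  have l : Fr2 M ≤ zpowers z := (closure_le _).2 fun _ ⟨t, ht, e⟩ => e ▸ k t ht
  exact (Inv.mem_zpowers_iff_of_mul_self a.zz).1 (l (cm_mem_Fr2 hm hn))

/-- `k ↦ ⁅k, x⁆` is a homomorphism `K → ⟨z⟩` with kernel `K ⊓ 𝐂[x]` -/
theorem card_cent (hK : K ≤ M) (hx : x ∈ M) : Nat.card K ≤ 2 * Nat.card ↥(K ⊓ 𝐂[x]) := by
  have := card_le_cm (X := K) (a := x) (J := zpowers z) fun c hc =>
    (Inv.mem_zpowers_iff_of_mul_self a.zz).2 (a.cm (hK hc) hx)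
  rwa [Nat.card_zpowers, Inv.ord_two_iff.2 ⟨a.ne, a.zz⟩, mul_comm] at this

variable (h : Ax T s)
include h

theorem ix (hx : x ∈ T) (hy : y ∈ T) (x' : x ∉ M) (y' : y ∉ M) : x * y ∈ M := h.ix a.le a.card hx hy x' y'

theorem norm : T ≤ 𝐍(M) := h.ixnorm a.le a.card

theorem sqM (hx : x ∈ T) : x * x ∈ M := h.ixsq a.le a.card hx

theorem bb : s * s * (s * s) = z := (a.sq _ (a.sqM h h.mem)).resolve_left h.s4

theorem sM : s ∉ M := fun e => h.s4 ((a.sq s e).elim (fun c => by rw [c, mul_one]) fun c => by rw [c, a.zz])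

theorem zW : z ∈ Fr2 T := a.bb h ▸ sq_mem_Fr2 (T.mul_mem h.mem h.mem)

theorem WM : Fr2 T ≤ M := (closure_le _).2 fun _ ⟨_, ht, e⟩ => e ▸ a.sqM h ht

/-- For `r ∈ T ∖ M` the set `D = {⁅m, r⁆, ⁅m, r⁆ z | m ∈ M}` is a subgroup of order at most 8 and `Fr2 T ≤ D ⊔ ⟨r²⟩`:
`δ : M/⟨z⟩ → M/⟨z⟩`, `m ↦ ⁅m, r⁆`, is an endomorphism of the elementary abelian group `M/⟨z⟩` of order 32 with `δ² = 0`
(`r² ∈ M` acts trivially), so `|im δ|² ≤ |im δ| |ker δ| = 32` and `|im δ| ≤ 4`.  Squares: `m² ∈ ⟨z⟩`,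
`(m r)² = m · (r m r⁻¹) · r² ≡ δ(m) r²`. -/
theorem exD (hr : r ∈ T) (r' : r ∉ M) : ∃ D : Subgroup G, D ≤ M ∧ Nat.card D ≤ 8 ∧ Fr2 T ≤ D ⊔ zpowers (r * r) ∧
    ∀ w, w ∈ D ↔ ∃ m ∈ M, w = ⁅m, r⁆ ∨ w = ⁅m, r⁆ * z := by
  have zp : ∀ {x}, x ∈ zpowers z ↔ x = 1 ∨ x = z := Inv.mem_zpowers_iff_of_mul_self a.zz
  have rn := a.norm h hr
  let Z := (zpowers z).subgroupOf M
  have : Z.Normal := ⟨fun x hx g => by
    rcases zp.1 hx with e | e
    · simp [show x = 1 from Subtype.ext e, Z]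
    · exact zp.2 (.inr (by simpa [show x.1 = z from e] using conj_fix (a.cen (a.le g.2))))⟩
  let q := QuotientGroup.mk' Z
  have q1 : ∀ x : M, q x = 1 ↔ x.1 = 1 ∨ x.1 = z := fun x => (QuotientGroup.eq_one_iff x).trans zp
  have qc : ∀ x y : M, q x * q y = q y * q x := fun x y => by
    rw [← cm_one, ← map_commutatorElement, q1]; exact a.cm x.2 y.2
  have qs : ∀ x : M, q x * q x = 1 := fun x => by rw [← map_mul, q1]; exact a.sq _ x.2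
  let d : M → M := fun m => ⟨⁅m.1, r⁆, cm_memY rn m.2⟩
  let φ : M →* M ⧸ Z := .mk' (fun m => q (d m)) fun m n => by
    rw [show d (m * n) = m * d n * m⁻¹ * d m from Subtype.ext (by simp only [d, coe_mul, InvMemClass.coe_inv, cdef]; group)]
    simp only [map_mul, map_inv]
    rw [qc m, mul_inv_cancel_right, qc]
  let D := φ.range.comap q
  have mD : ∀ w : M, w ∈ D ↔ ∃ m ∈ M, w.1 = ⁅m, r⁆ ∨ w.1 = ⁅m, r⁆ * z := fun w => by
    refine ⟨fun ⟨m, e⟩ => ⟨m, m.2, ?_⟩, fun ⟨m, hm, e⟩ => ⟨⟨m, hm⟩, ?_⟩⟩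
    · have := (q1 ((d m)⁻¹ * w)).1 (by rw [map_mul, map_inv]; exact inv_mul_eq_one.2 e)
      exact this.imp (fun c => (inv_mul_eq_one.1 c).symm) fun c => inv_mul_eq_iff_eq_mul.1 c
    · refine inv_mul_eq_one.1 ?_
      show (q (d _))⁻¹ * q w = 1
      rw [← map_inv, ← map_mul, q1]
      exact e.imp (fun c => inv_mul_eq_one.2 c.symm) fun c => inv_mul_eq_iff_eq_mul.2 c
  have dk : D ≤ φ.ker := fun w ⟨m, e⟩ => by
    have e1 : φ w = φ (d m) := by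
      obtain ⟨c, hc, rfl⟩ : ∃ c ∈ Z, w = d m * c := ⟨_, QuotientGroup.eq.1 e, (mul_inv_cancel_left _ _).symm⟩
      rw [map_mul, show φ c = 1 from (q1 _).2 (.inl (cm_one.2 ?_)), mul_one]
      rcases zp.1 (mem_subgroupOf.1 hc) with e | e <;> rw [e]
      exacts [by simp, (mem_cent1.1 (a.cen hr)).symm]
    let n : M := ⟨r * m⁻¹ * r⁻¹, cj_mem rn (inv_mem m.2)⟩
    let ρ : M := ⟨r * r, a.sqM h hr⟩
    rw [MonoidHom.mem_ker, e1]
    show q (d (d m)) = 1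
    rw [show d (d m) = m * n * (ρ * m * ρ⁻¹) * n from
      Subtype.ext (by simp only [d, n, ρ, coe_mul, InvMemClass.coe_inv, cdef]; group)]
    simp only [map_mul, map_inv]
    rw [qc ρ, mul_inv_cancel_right, qc m n, mul_assoc (q n), qs, mul_one, qs]
  have cZ : Nat.card Z = 2 := by
    rw [Nat.card_congr (subgroupOfEquivOfLe (zpowers_le.2 a.mem)).toEquiv, Nat.card_zpowers, Inv.ord_two_iff.2 ⟨a.ne, a.zz⟩]
  have c1 := card_eq_card_quotient_mul_card_subgroup Z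
  have c2 := φ.range.card_mul_index
  have c3 := D.card_mul_index
  have c4 := φ.ker.card_mul_index
  have c5 := card_le_of_le dk
  rw [index_comap_of_surjective _ (QuotientGroup.mk'_surjective Z), a.card] at c3
  rw [index_ker, a.card] at c4
  rw [a.card, cZ] at c1
  have c6 : Nat.card D = 2 * Nat.card φ.range := Nat.eq_of_mul_eq_mul_right (Nat.pos_of_ne_zero index_ne_zero_of_finite)
    (by rw [c3, mul_assoc, c2]; omega)
  have c7 : Nat.card φ.range ≤ 4 := by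
    have : Nat.card φ.range ≠ 5 := fun e => by rw [e] at c4; omega
    have : ¬ 6 ≤ Nat.card φ.range := fun e => by nlinarith
    omega
  have mD' : ∀ w, w ∈ D.map M.subtype ↔ ∃ m ∈ M, w = ⁅m, r⁆ ∨ w = ⁅m, r⁆ * z := fun w =>
    ⟨fun ⟨x, hx, e⟩ => e ▸ (mD x).1 hx, fun ⟨m, hm, e⟩ => ⟨⟨w, e.elim (fun c => c ▸ cm_memY rn hm)
      fun c => c ▸ mul_mem (cm_memY rn hm) a.mem⟩, (mD _).2 ⟨m, hm, e⟩, rfl⟩⟩
  have sD : ∀ x ∈ M, x * x ∈ D.map M.subtype := fun x hx => (mD' _).2 ⟨1, one_mem _, by simpa using a.sq x hx⟩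
  refine ⟨D.map M.subtype, map_subtype_le _, by rw [card_subtype]; omega, (closure_le _).2 ?_, mD'⟩
  rintro _ ⟨t, ht, rfl⟩
  by_cases c : t ∈ M
  · exact mem_sup_left (sD t c)
  have hm := a.ix h ht (inv_mem hr) c (by simpa)
  have e : t * t = ⁅t * r⁻¹, r⁆ * (cj r (t * r⁻¹) * cj r (t * r⁻¹)) * (r * r) := by simp only [cdef, cj_def]; group
  exact e ▸ mul_mem_sup (mul_mem ((mD' _).2 ⟨_, hm, .inl rfl⟩) (sD _ (cj_mem rn hm))) (mem_zpowers _)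

/-- `exD` for `r = s`: `z ∈ D`, `s²` normalizes `D` and `(s²)² = z` -/
theorem W16 : Nat.card (Fr2 T) ≤ 16 := by
  obtain ⟨D, l, c, w, m⟩ := a.exD h h.mem (a.sM h)
  have zD : z ∈ D := (m z).2 ⟨1, one_mem _, by simp⟩
  refine (card_le_of_le w).trans ?_
  by_cases e : s * s ∈ D
  · rw [sup_eq_left.2 (zpowers_le.2 e)]; omega
  rw [card_sup_zp (norm_of fun x hx => cj_eq (s * s) x ▸ mul_mem ((a.cm (a.sqM h h.mem) (l hx)).elim (fun c => c ▸ one_mem _)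
    fun c => c ▸ zD) hx) e (a.bb h ▸ zD)]
  omega

theorem W8 (hr : r ∈ T) (r' : r ∉ M) (r2 : r * r = 1 ∨ r * r = z) : Nat.card (Fr2 T) ≤ 8 := by
  obtain ⟨D, -, c, w, m⟩ := a.exD h hr r'
  rw [sup_eq_left.2 (zpowers_le.2 ((m _).2 ⟨1, one_mem _, by simpa using r2⟩))] at w
  exact (card_le_of_le w).trans c

theorem Wmem (hr : r ∈ T) (r' : r ∉ M) (r2 : r * r = 1 ∨ r * r = z) (hw : w ∈ Fr2 T) :
    ∃ m ∈ M, w = ⁅m, r⁆ ∨ w = ⁅m, r⁆ * z := by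
  obtain ⟨D, -, -, l, m⟩ := a.exD h hr r'
  rw [sup_eq_left.2 (zpowers_le.2 ((m _).2 ⟨1, one_mem _, by simpa using r2⟩))] at l
  exact (m w).1 (l hw)

/-- F0.  Let `u ≠ z`.  `extr` gives `k` with `cj k u = z`, `k ⋆ M ≤ T`.  `M' = k ⋆ M` has order 64 and squares in `⟨v⟩`,
`v = cj k z ≠ z` (as `cj k u = z`).  `s² ∈ M ⊓ M'` (`ixsq`), so `z = (s²)² ∈ {1, v}`, absurd. -/
theorem f0 (hc : M ≤ 𝐂[u]) (e : IsConj u z) : u = z := by
  obtain ⟨k, e1, hk⟩ := h.extr a.cen e (h.pg.to_le a.le) hc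
  have b := a.conj k
  exact cj_inj (e1.trans ((a.bb h).symm.trans ((b.sq _ (h.ixsq hk b.card h.mem)).resolve_left h.s4)))

end Al

end Cfsg.Lib.SPT
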